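import Cfsg.Agent.KFacts.MulCo.Co1
import Cfsg.Agent.KFacts.MulBaer
import Cfsg.Agent.S0368

/-!
# `Co₀` is the only perfect double cover of `Co₁` (helper927)

* `commutator_co0`: `Co₀` is perfect; `dbl_co0`: it is a perfect double cover of `Co₁`.
* `oneCover`: `OneCover Co₁`, if `M₂₄` has no perfect double cover.
* `exists_equiv_co0`: a finite perfect group `K` with a homomorphism onto `Co₁` whose kernel is a non-trivial central
  2-group is isomorphic to `Co₀` over `Co₁`.
-/

set_option autoImplicit false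
open Cfsg

namespace Cfsg.Agent.KFacts.MulCo.CoZero

open scoped Pointwise commutatorElement
open Subgroup Cfsg.Agent.KFacts.MulTwo Cfsg.Agent.KFacts.MulDef Cfsg.Agent.KFacts.MulBound
open Cfsg.Agent.SporadicA Cfsg.Agent.SporadicA.Co0Mono
open Cfsg.Agent.SporadicA.Co1Simple
open Cfsg.Agent.CoOneType.SignFacts (sup wt sup_mem)
open Cfsg.Agent.KFacts.MulCo.Core Cfsg.Agent.KFacts.MulCo.Co1 Cfsg.Agent.KFacts.MulCo.OctStab

/-- A dodecad word `d` and a permutation mapping it to its complement. -/
theorem exists_swap : ∃ (d : golayCode) (m : M24), wordPerm m d = d + allOne := by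
  let d : golayCode := q 0
  have h1 : wt d = 12 := by
    show (support₂ (qrWord 0)).card = 12
    rw [GolayBase.word_qrMask 0 |>.symm, GolayBase.support₂_word, GolayBase.card_fin]
    decide +kernel
  have h2 : wt (d + allOne) = 12 := by
    have := Cfsg.Agent.CoOneType.SignFacts.wt_add_allOne d
    omega
  obtain ⟨m, hm⟩ := Cfsg.Agent.S0368.result (sup d) (sup (d + allOne)) ⟨sup_mem d, h1⟩ ⟨sup_mem _, h2⟩
  exact ⟨d, m, (wordPerm_eq_iff _ _ _).2 hm⟩

theorem commutator_co1 : commutator Cfsg.Spor.Co1 = ⊤ := by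
  have hs : IsSimpleGroup Cfsg.Spor.Co1 := Cfsg.Agent.S0399.result.1
  rcases hs.eq_bot_or_eq_top_of_normal (commutator Cfsg.Spor.Co1) inferInstance with h | h
  · exfalso
    have hcomm : ∀ a b : Cfsg.Spor.Co1, a * b = b * a := by
      intro a b
      have h1 : ⁅a, b⁆ ∈ commutator Cfsg.Spor.Co1 :=
        Subgroup.commutator_mem_commutator (Subgroup.mem_top a) (Subgroup.mem_top b)
      rw [h, Subgroup.mem_bot, commutatorElement_eq_one_iff_mul_comm] at h1
      exact h1
    let _ : CommGroup Cfsg.Spor.Co1 := { (inferInstance : Group Cfsg.Spor.Co1) with mul_comm := hcomm }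
    have h2 : (Nat.card Cfsg.Spor.Co1).Prime := IsSimpleGroup.prime_card
    rw [show Nat.card Cfsg.Spor.Co1 = 4157776806543360000 from Cfsg.Agent.S0399.result.2] at h2
    exact absurd h2 (by norm_num)
  · exact h

theorem allOne_mem_commutator : signCo0 allOne ∈ commutator Co0 := by
  obtain ⟨d, m, hm⟩ := exists_swap
  have h1 : ⁅permCo0 m, signCo0 d⁆ = signCo0 allOne := by
    rw [commutatorElement_def, perm_mul_sign_mul_inv, hm, signCo0_inv, ← signCo0_add, add_comm d, add_assoc,
      signCo0_add_self, add_zero]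
  rw [← h1]
  exact commutator_mem_commutator (mem_top _) (mem_top _)

theorem commutator_co0 : commutator Co0 = ⊤ := by
  rw [eq_top_iff]
  intro g _
  have h1 : (commutator Co0).map (QuotientGroup.mk' (center Co0)) = ⊤ := by
    rw [commutator_def, map_commutator, ← MonoidHom.range_eq_map,
      MonoidHom.range_eq_top.2 (QuotientGroup.mk'_surjective _), ← commutator_def]
    exact commutator_co1
  have h2 : QuotientGroup.mk' (center Co0) g ∈ (commutator Co0).map (QuotientGroup.mk' (center Co0)) := by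
    rw [h1]; trivial
  obtain ⟨x, hx, h3⟩ := h2
  have h4 : x⁻¹ * g ∈ center Co0 := QuotientGroup.eq.1 h3
  have h5 : x⁻¹ * g ∈ commutator Co0 := by
    rcases mem_center.1 h4 with h | h
    · rw [h]; exact one_mem _
    · rw [h]; exact allOne_mem_commutator
  have := mul_mem hx h5
  rwa [mul_inv_cancel_left] at this

/-- `Co₀` is a perfect double cover of `Co₁`. -/
theorem dbl_co0 : Dbl (QuotientGroup.mk' (center Co0) : Co0 →* Cfsg.Spor.Co1) (signCo0 allOne) where
  ne h := allOne_ne_zero (sign_eq_one h)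
  sq := signCo0_mul_self _
  cen x := (mem_center_iff.1 allOne_mem_center x).symm
  perf := commutator_co0
  surj := QuotientGroup.mk'_surjective _
  ker x := by
    rw [← mem_center]
    exact QuotientGroup.eq_one_iff x

/-- In a double cover of `Co₁` the sign changes on a dodecad and its complement lift to different elements. -/
theorem commutator_eq (hM : NoDouble M24) {d : golayCode} {m : M24} (hm : wordPerm m d = d + allOne)
    {K : Type*} [Group K] [Finite K] {π : K →* Cfsg.Spor.Co1} {c : K} (hd : Dbl π c) {x y : K}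
    (hx : π x = s d) (hy : π y = p m) : ⁅x, y⁆ = c := by
  have hk : π.ker ≤ center K := by
    intro z hz
    rcases (hd.ker z).1 hz with rfl | rfl
    · exact one_mem _
    · exact mem_center_iff.2 fun g => (hd.cen g).symm
  obtain ⟨S, hS, hπ, heq⟩ := (gol.lift hd.surj hk).exists_section
  have hS0 : S 0 = 1 := by
    have := hS 0 0
    rw [add_zero] at this
    exact (left_eq_mul.1 this)
  have hSS : S d * S d = 1 := by rw [← hS, signCo0_add_self, hS0]
  have h1 : S allOne = c := by
    rcases (hd.ker _).1 (show π (S allOne) = 1 by rw [hπ, s_allOne]) with h | h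
    · exact absurd (gol.false_of_dbl hM hd hS hπ heq h) id
    · exact h
  have h2 := heq y m hy d
  rw [hm, hS, h1] at h2
  -- `y (S d) y⁻¹ = S d * c`
  have h3 : π (x * (S d)⁻¹) = 1 := by rw [map_mul, map_inv, hx, hπ, mul_inv_cancel]
  obtain ⟨z, hz, h4⟩ : ∃ z, z ∈ center K ∧ x = z * S d :=
    ⟨x * (S d)⁻¹, hk h3, by rw [inv_mul_cancel_right]⟩
  have hz' := mem_center_iff.1 hz
  have h5 : y * x * y⁻¹ = x * c := by
    calc y * x * y⁻¹ = (y * z) * S d * y⁻¹ := by rw [h4]; group
      _ = z * (y * S d * y⁻¹) := by rw [hz' y]; group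
      _ = x * c := by rw [h2, h4]; group
  have h6 : c⁻¹ = c := inv_eq_of_mul_eq_one_left hd.sq
  calc ⁅x, y⁆ = x * (y * x * y⁻¹)⁻¹ := by rw [commutatorElement_def]; group
    _ = x * (c⁻¹ * x⁻¹) := by rw [h5, mul_inv_rev]
    _ = c := by rw [h6, hd.cen, mul_inv_cancel_left]

/-- One perfect double cover. -/
theorem oneCover (hM : NoDouble M24) : OneCover Cfsg.Spor.Co1 := by
  obtain ⟨d, m, hm⟩ := exists_swap
  refine MulBaer.oneCover_of (s := s d) (w := p m) ?_ ?_
  · rw [← gol.add, signCo0_add_self, gol.ι_zero]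
  · intro K _ _ π c hd x y hx hy
    exact commutator_eq hM hm hd hx hy

/-- **`Co₀` is the only perfect central extension of `Co₁` by a non-trivial 2-group.** -/
theorem exists_equiv_co0 (hM : NoDouble M24) {K : Type*} [Group K] [Finite K] (hK : commutator K = ⊤)
    {f : K →* Cfsg.Spor.Co1} (hf : Function.Surjective f) (hk : f.ker ≤ center K) (h2 : IsPGroup 2 f.ker)
    (hne : f.ker ≠ ⊥) : ∃ θ : K ≃* Co0, ∀ x, QuotientGroup.mk' (center Co0) (θ x) = f x := by
  have hcard : Nat.card f.ker = 2 := by
    have h1 := card_ker_le hM hK hf hk h2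
    have h3 : 1 < Nat.card f.ker := by
      rw [Subgroup.one_lt_card_iff_ne_bot]; exact hne
    omega
  obtain ⟨c, hc, hc'⟩ := (Nat.card_eq_two_iff' (1 : f.ker)).1 hcard
  have hc1 : (c : K) ≠ 1 := fun h => hc (Subtype.ext h)
  have hmem : ∀ x, x ∈ f.ker → x = 1 ∨ x = c := by
    intro x hx
    by_cases h : x = 1
    · exact Or.inl h
    · exact Or.inr (congrArg Subtype.val (hc' ⟨x, hx⟩ (fun h' => h (congrArg Subtype.val h'))))
  have hd : Dbl f (c : K) :=
    { ne := hc1
      sq := by
        rcases hmem _ (mul_mem c.2 c.2) with h | h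
        · exact h
        · exact absurd (mul_eq_left.1 h) hc1
      cen := fun x => (mem_center_iff.1 (hk c.2) x).symm
      perf := hK
      surj := hf
      ker := fun x => ⟨fun h => hmem x h, fun h => by
        rcases h with rfl | rfl
        · exact map_one f
        · exact c.2⟩ }
  obtain ⟨K', i1, i2, ⟨e⟩⟩ := exists_type_zero K
  have hd' := hd.of_equiv e (MulEquiv.refl _)
  obtain ⟨θ, hθ⟩ := (oneCover hM).uniq K' Co0 _ _ _ _ hd' dbl_co0
  refine ⟨e.trans θ, fun x => ?_⟩
  have h3 := hθ (e x)
  rw [MulEquiv.trans_apply]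
  rw [h3]
  show f (e.symm (e x)) = f x
  rw [e.symm_apply_apply]

end Cfsg.Agent.KFacts.MulCo.CoZero
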