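import Cfsg.Agent.KFacts.MulCo.Core
import Cfsg.Agent.S0398
import Cfsg.Agent.S0399

/-!
# The 2-part of the Schur multiplier of `Co₁` (helper927)

`mem_center`, `s_eq_one`, `gol`: the subgroup `2¹¹ : M₂₄` of `Co₁`.

* `card_ker_le`: if `M₂₄` has no perfect double cover and `K` is a finite perfect group with a homomorphism onto `Co₁`
  whose kernel is a central 2-subgroup, then the kernel has order at most 2.
* `card_two_part_le`: without the assumption on 2-groups: the kernel has a subgroup of odd index and order at most 2.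
-/

set_option autoImplicit false
open Cfsg

namespace Cfsg.Agent.KFacts.MulCo.Co1

open Subgroup Cfsg.Agent.KFacts.MulTwo Cfsg.Agent.KFacts.MulDef
open Cfsg.Agent.SporadicA Cfsg.Agent.SporadicA.Co0Mono
open Cfsg.Agent.SporadicA.Co1Simple
open Cfsg.Agent.SporadicStructure.Co0Base (e8 e8_coe)
open Cfsg.Agent.SporadicStructure.LeechBase (zmod2_cases)
open Cfsg.Agent.KFacts.MulCo.Core

theorem sign_eq_one {c : golayCode} (h : signCo0 c = 1) : c = 0 := by
  apply Subtype.ext
  funext i
  have h1 : signCo0 c • e8 i = e8 i := by rw [h, one_smul]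
  have h2 := congrArg (fun v : leechLattice => (v : GolayPt → ℤ) i) h1
  simp only [signCo0_smul, signMap_apply, e8_coe, Pi.single_eq_same] at h2
  rcases zmod2_cases ((c : GolayPt → ZMod 2) i) with h3 | h3
  · exact h3
  · rw [h3, sgn_one] at h2
    norm_num at h2

theorem sign_eq {c d : golayCode} (h : signCo0 c = signCo0 d) : c = d := by
  have h1 : signCo0 (c + d) = 1 := by
    rw [signCo0_add, h, signCo0_mul_self]
  have h2 := sign_eq_one h1
  have h3 : c + d + d = d := by rw [h2, zero_add]
  rwa [add_assoc, signCo0_add_self, add_zero] at h3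

theorem allOne_ne_zero : allOne ≠ 0 := by
  intro h
  have h1 := congrArg (fun c : golayCode => (c : GolayPt → ZMod 2) none) h
  have h2 : (1 : ZMod 2) = 0 := h1
  exact absurd h2 (by decide)

theorem mem_center {g : Co0} : g ∈ center Co0 ↔ g = 1 ∨ g = signCo0 allOne := by
  constructor
  · intro hg
    by_contra hcon
    push Not at hcon
    have h2 : Nat.card (center Co0) = 2 := Cfsg.Agent.S0398.result
    obtain ⟨y, hy, hy'⟩ := (Nat.card_eq_two_iff' (1 : center Co0)).1 h2
    have h3 : (⟨g, hg⟩ : center Co0) = y := hy' _ (fun h => hcon.1 (congrArg Subtype.val h))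
    have h4 : (⟨signCo0 allOne, allOne_mem_center⟩ : center Co0) = y :=
      hy' _ (fun h => allOne_ne_zero (sign_eq_one (congrArg Subtype.val h)))
    exact hcon.2 (congrArg Subtype.val (h3.trans h4.symm))
  · rintro (rfl | rfl)
    · exact one_mem _
    · exact allOne_mem_center

/-- Sign changes in `Co₁`. -/
def s (c : golayCode) : Cfsg.Spor.Co1 := QuotientGroup.mk' (center Co0) (signCo0 c)

/-- Permutations in `Co₁`. -/
def p : M24 →* Cfsg.Spor.Co1 := (QuotientGroup.mk' (center Co0)).comp permCo0

theorem s_allOne : s allOne = 1 := (QuotientGroup.eq_one_iff _).2 allOne_mem_center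

theorem s_eq_one {c : golayCode} (h : s c = 1) : c = 0 ∨ c = allOne := by
  rcases mem_center.1 ((QuotientGroup.eq_one_iff _).1 h) with h1 | h1
  · exact Or.inl (sign_eq_one h1)
  · exact Or.inr (sign_eq h1)

instance finite_co0 : Finite Co0 :=
  Nat.finite_of_card_ne_zero (by rw [Cfsg.Agent.S0397.result]; norm_num)

theorem index_N : N.index = 8292375 := by
  have h := N.card_mul_index
  rw [Cfsg.Agent.S0397.result, Cfsg.Agent.S0399.card_N] at h
  omega

theorem center_le_N : center Co0 ≤ N := by
  intro g hg
  rcases mem_center.1 hg with rfl | rfl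
  · exact one_mem _
  · exact sign_mem_N _

/-- The subgroup `2¹¹ : M₂₄` of odd index. -/
theorem gol : Gol s p (N.map (QuotientGroup.mk' (center Co0))) where
  add c d := by
    unfold s
    rw [signCo0_add, map_mul]
  conj m c := by
    show QuotientGroup.mk' _ (permCo0 m) * QuotientGroup.mk' _ (signCo0 c) * (QuotientGroup.mk' _ (permCo0 m))⁻¹ = _
    rw [← map_mul, ← map_inv, ← map_mul, perm_mul_sign_mul_inv]
    rfl
  inj w σ h := by
    have h1 : QuotientGroup.mk' (center Co0) (signCo0 w * permCo0 σ) = 1 := by rw [map_mul]; exact h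
    have h2 : σ = 1 := by
      rcases mem_center.1 ((QuotientGroup.eq_one_iff _).1 h1) with h3 | h3
      · exact perm_eq_one h3
      · apply perm_eq_one (d := allOne + w)
        rw [signCo0_add, mul_assoc, h3, signCo0_mul_self]
    refine ⟨h2, s_eq_one ?_⟩
    rw [h2, map_one, mul_one] at h
    exact h
  mem x := by
    constructor
    · rintro ⟨g, hg, rfl⟩
      obtain ⟨c, σ, h1⟩ := exists_sign_perm hg
      refine ⟨c, σ, ?_⟩
      rw [h1, map_mul]
      rfl
    · rintro ⟨w, σ, rfl⟩
      refine ⟨signCo0 w * permCo0 σ, N.mul_mem (sign_mem_N w) (perm_mem_N σ), ?_⟩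
      rw [map_mul]
      rfl
  odd := by
    have h : (N.map (QuotientGroup.mk' (center Co0))).index = N.index := by
      apply Subgroup.index_map_eq _ (QuotientGroup.mk'_surjective _)
      rw [QuotientGroup.ker_mk']
      exact center_le_N
    rw [h, index_N]
    norm_num

/-- **The 2-part of the multiplier of `Co₁` has order at most 2.** -/
theorem card_ker_le (hM : NoDouble M24) {K : Type*} [Group K] [Finite K] (hK : commutator K = ⊤)
    {f : K →* Cfsg.Spor.Co1} (hf : Function.Surjective f) (hk : f.ker ≤ center K) (h2 : IsPGroup 2 f.ker) :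
    Nat.card f.ker ≤ 2 := gol.card_ker_le hM hK hf hk s_allOne h2

/-- The kernel of a central extension of `Co₁` has a subgroup of odd index and order at most 2. -/
theorem card_two_part_le (hM : NoDouble M24) {K : Type*} [Group K] [Finite K] (hK : commutator K = ⊤)
    {f : K →* Cfsg.Spor.Co1} (hf : Function.Surjective f) (hk : f.ker ≤ center K) :
    ∃ e : K, e ∈ f.ker ∧ e * e = 1 ∧ ¬ 2 ∣ (zpowers e).relIndex f.ker := gol.odd_relIndex hM hK hf hk s_allOne

end Cfsg.Agent.KFacts.MulCo.Co1
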