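import Cfsg.Agent.KFacts.MulCo.OctCert
import Cfsg.Agent.KFacts.MulCo.OctStab
import Cfsg.Agent.SporadicStructure.OctadSpan
import Cfsg.Agent.S0358

/-!
# Lifting the Golay code to central extensions (helper927)

`Lift π ι κ`: `π : K → X` is a surjective homomorphism with central kernel, `ι` a homomorphism of the Golay code to `X`,
equivariant for `κ : M₂₄ → X`.

`Lift.exists_section`: `ι` lifts to an `M₂₄`-equivariant homomorphism `S` of the Golay code to `K`.

Proof: the octad stabilisers have no abelian quotients, so the octads lift equivariantly; commutators and squares of the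
lifts are constants, which the third octad operation of sextets kills (after a shift by a constant); a kernel
certificate (`OctCert.oct_induction`) shows that the lifts of all octads are determined by twelve of them.
-/

set_option autoImplicit false
open Cfsg

namespace Cfsg.Agent.KFacts.MulCo.OctLift

open Subgroup
open scoped commutatorElement
open Cfsg.Agent.SporadicA Cfsg.Agent.SporadicA.Co0Mono
open Cfsg.Agent.CoOneType.SignFacts (sup wt)
open Cfsg.Agent.SporadicStructure
open Cfsg.Agent.SporadicA.Co1Simple (wordPerm_mul wordPerm_one)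
open OctCert OctStab

/-! ### The linear structure -/

/-- Commuting involutions indexed by a basis define a homomorphism. -/
theorem exists_hom {V : Type*} [AddCommGroup V] [Module (ZMod 2) V] {n : ℕ} (b : Module.Basis (Fin n) (ZMod 2) V)
    {K : Type*} [Group K] (t : Fin n → K) (hcomm : ∀ i j, t i * t j = t j * t i) (hsq : ∀ i, t i * t i = 1) :
    ∃ S : V → K, (∀ c d, S (c + d) = S c * S d) ∧ ∀ i, S (b i) = t i := by
  have hc : ∀ x ∈ Set.range t, ∀ y ∈ Set.range t, x * y = y * x := by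
    rintro _ ⟨i, rfl⟩ _ ⟨j, rfl⟩
    exact hcomm i j
  letI : CommGroup (closure (Set.range t)) := closureCommGroupOfComm hc
  have hsq' : ∀ x : closure (Set.range t), x * x = 1 := by
    rintro ⟨x, hx⟩
    induction hx using closure_induction with
    | mem x hx =>
      obtain ⟨i, rfl⟩ := hx
      exact Subtype.ext (hsq i)
    | one => exact one_mul _
    | mul x y hx hy ihx ihy =>
      have e : (⟨x * y, mul_mem hx hy⟩ : closure (Set.range t)) = ⟨x, hx⟩ * ⟨y, hy⟩ := rfl
      rw [e, mul_mul_mul_comm, ihx, ihy, one_mul]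
    | inv x hx ih =>
      have e : (⟨x⁻¹, inv_mem hx⟩ : closure (Set.range t)) = (⟨x, hx⟩)⁻¹ := rfl
      rw [e, ← mul_inv, ih, inv_one]
  letI : Module (ZMod 2) (Additive (closure (Set.range t))) := AddCommGroup.zmodModule (fun x => by
    rw [two_nsmul]
    exact hsq' x.toMul)
  let f := b.constr (ZMod 2) (fun i => Additive.ofMul (⟨t i, subset_closure ⟨i, rfl⟩⟩ : closure (Set.range t)))
  refine ⟨fun c => ((f c).toMul : closure (Set.range t)), fun c d => ?_, fun i => ?_⟩
  · show (((f (c + d)).toMul : closure (Set.range t)) : K) = _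
    rw [map_add]; rfl
  · have h1 := b.constr_basis (ZMod 2) (fun i => Additive.ofMul
      (⟨t i, subset_closure ⟨i, rfl⟩⟩ : closure (Set.range t))) i
    show (((f (b i)).toMul : closure (Set.range t)) : K) = t i
    rw [h1]; rfl

/-- The twelve octads form a basis of the code. -/
theorem exists_basis : ∃ b : Module.Basis (Fin 12) (ZMod 2) golayCode, ∀ j, b j = bas j := by
  have h1 : ∀ c : golayCode, wt c = 8 → c ∈ Submodule.span (ZMod 2) (Set.range bas) := by
    apply oct_induction
    · exact fun j => Submodule.subset_span ⟨j, rfl⟩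
    · intro c d _ _ _ hc hd
      exact Submodule.add_mem _ hc hd
  have h2 : ∀ c : golayCode, c ∈ Submodule.span (ZMod 2) (Set.range bas) := by
    rintro ⟨c, hc⟩
    have h3 := OctadSpan.golay_induction
      (P := fun v => ∀ h : v ∈ golayCode, (⟨v, h⟩ : golayCode) ∈ Submodule.span (ZMod 2) (Set.range bas))
      (fun h => Submodule.zero_mem _) (fun v w hv hw h4 h5 h6 => Submodule.add_mem _ (h4 hv) (h5 hw))
      (fun w hw h8 h => h1 ⟨w, h⟩ h8) c hc
    exact h3 hc
  refine ⟨basisOfTopLeSpanOfCardEqFinrank bas (fun c _ => h2 c) ?_, fun j => ?_⟩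
  · rw [Fintype.card_fin]
    exact Cfsg.Agent.S0358.result.symm
  · rw [coe_basisOfTopLeSpanOfCardEqFinrank]

/-- Homomorphisms on the code which agree on the octads are equal. -/
theorem hom_ext {K : Type*} [Group K] {S S' : golayCode → K} (h : ∀ c d, S (c + d) = S c * S d)
    (h' : ∀ c d, S' (c + d) = S' c * S' d) (ho : ∀ c, wt c = 8 → S c = S' c) : ∀ c, S c = S' c := by
  have h0 : S 0 = 1 := by
    have := h 0 0
    rw [add_zero] at this
    exact (left_eq_mul.1 this)
  have h0' : S' 0 = 1 := by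
    have := h' 0 0
    rw [add_zero] at this
    exact (left_eq_mul.1 this)
  rintro ⟨c, hc⟩
  exact OctadSpan.golay_induction (P := fun v => ∀ hv : v ∈ golayCode, S ⟨v, hv⟩ = S' ⟨v, hv⟩)
    (fun hv => by
      have e : (⟨0, hv⟩ : golayCode) = 0 := rfl
      rw [e, h0, h0'])
    (fun v w hv hw h4 h5 h6 => by
      have e : (⟨v + w, h6⟩ : golayCode) = ⟨v, hv⟩ + ⟨w, hw⟩ := rfl
      rw [e, h, h', h4, h5])
    (fun w hw h8 hv => ho ⟨w, hv⟩ h8) c hc hc

/-! ### The setting -/

/-- `π` is a surjection with central kernel, `ι` is an equivariant homomorphism of the Golay code. -/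
structure Lift {K X : Type*} [Group K] [Group X] (π : K →* X) (ι : golayCode → X) (κ : M24 →* X) : Prop where
  surj : Function.Surjective π
  ker : π.ker ≤ center K
  add : ∀ c d, ι (c + d) = ι c * ι d
  conj : ∀ m c, κ m * ι c * (κ m)⁻¹ = ι (wordPerm m c)

namespace Lift

variable {K X : Type*} [Group K] [Group X] {π : K →* X} {ι : golayCode → X} {κ : M24 →* X}
  (h : Lift π ι κ)

include h

theorem cen {x : K} (hx : π x = 1) (y : K) : x * y = y * x := (mem_center_iff.1 (h.ker hx) y).symm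

theorem comm (c d : golayCode) : ι c * ι d = ι d * ι c := by rw [← h.add, ← h.add, add_comm]

theorem self (c : golayCode) : ι c * ι c = 1 := by
  have h0 : ι 0 = 1 := by
    have := h.add 0 0
    rw [add_zero] at this
    exact (left_eq_mul.1 this)
  rw [← h.add, Co1Simple.signCo0_add_self, h0]

/-- A section of `π`. -/
noncomputable def sec (x : X) : K := Function.surjInv h.surj x

theorem π_sec (x : X) : π (h.sec x) = x := Function.surjInv_eq h.surj x

/-- The action of `m` on `K`. -/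
noncomputable def act (m : M24) (x : K) : K := h.sec (κ m) * x * (h.sec (κ m))⁻¹

theorem act_eq {k : K} {m : M24} (hk : π k = κ m) (x : K) : h.act m x = k * x * k⁻¹ := by
  unfold act
  have h1 : π (k⁻¹ * h.sec (κ m)) = 1 := by
    rw [map_mul, h.π_sec, map_inv, hk, inv_mul_cancel]
  have h2 := h.cen h1 x
  have h3 : h.sec (κ m) = k * (k⁻¹ * h.sec (κ m)) := by
    rw [mul_inv_cancel_left]
  rw [h3, mul_assoc k _ x, h2, mul_inv_rev]
  group

theorem π_act (m : M24) (x : K) : π (h.act m x) = κ m * π x * (κ m)⁻¹ := by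
  unfold act
  rw [map_mul, map_mul, map_inv, h.π_sec]

theorem act_mul (m : M24) (x y : K) : h.act m (x * y) = h.act m x * h.act m y := by
  unfold act; group

theorem act_inv (m : M24) (x : K) : h.act m x⁻¹ = (h.act m x)⁻¹ := by
  unfold act; group

theorem act_ker (m : M24) {x : K} (hx : π x = 1) : h.act m x = x := by
  unfold act
  rw [← h.cen hx, mul_inv_cancel_right]

theorem act_act (m n : M24) (x : K) : h.act m (h.act n x) = h.act (m * n) x := by
  rw [h.act_eq (k := h.sec (κ m) * h.sec (κ n)) (m := m * n)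
    (by rw [map_mul, h.π_sec, h.π_sec, map_mul])]
  unfold act
  group

theorem act_one (x : K) : h.act 1 x = x := by
  rw [h.act_eq (k := 1) (by rw [map_one, map_one]), one_mul, inv_one, mul_one]

theorem act_inj (m : M24) {x y : K} (hxy : h.act m x = h.act m y) : x = y := by
  have := congrArg (h.act m⁻¹) hxy
  rwa [h.act_act, h.act_act, inv_mul_cancel, h.act_one, h.act_one] at this

/-- The stabiliser of an octad centralises the lifts of the octad. -/
theorem act_fix {c : golayCode} (hc : wt c = 8) {m : M24} (hm : wordPerm m c = c) {x : K} (hx : π x = ι c) :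
    h.act m x = x := by
  have hπ : ∀ n : ↥(St c), π (h.act n x * x⁻¹) = 1 := by
    intro n
    rw [map_mul, h.π_act, map_inv, hx, h.conj, mem_St.1 n.2, mul_inv_cancel]
  letI : CommGroup (center K) := { (inferInstance : Group (center K)) with
    mul_comm := fun a b => Subtype.ext (mem_center_iff.1 b.2 a) }
  let z : ↥(St c) →* center K :=
    { toFun := fun n => ⟨h.act n x * x⁻¹, h.ker (hπ n)⟩
      map_one' := by
        apply Subtype.ext
        show h.act ((1 : ↥(St c)) : M24) x * x⁻¹ = 1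
        rw [coe_one, h.act_one, mul_inv_cancel]
      map_mul' := fun a b => by
        apply Subtype.ext
        show h.act ((a * b : ↥(St c)) : M24) x * x⁻¹ = (h.act a x * x⁻¹) * (h.act b x * x⁻¹)
        have h1 : h.act b x = (h.act b x * x⁻¹) * x := by rw [inv_mul_cancel_right]
        rw [coe_mul, ← h.act_act, h1, h.act_mul, h.act_ker _ (hπ b), mul_inv_cancel_right, mul_assoc,
          h.cen (hπ b)] }
  have h1 := congrArg (Subtype.val : center K → K) (hom_eq_one hc z ⟨m, hm⟩)
  have h2 : h.act m x * x⁻¹ = 1 := h1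
  exact mul_inv_eq_one.1 h2

/-- Equivariant lifts of the octads. -/
theorem exists_s : ∃ s : golayCode → K, (∀ c, wt c = 8 → π (s c) = ι c) ∧
    ∀ c m, wt c = 8 → h.act m (s c) = s (wordPerm m c) := by
  classical
  have h0 : wt (w 1) = 8 := patterns.1
  obtain ⟨x₀, hx₀⟩ := h.surj (ι (w 1))
  refine ⟨fun c => if hc : wt c = 8 then h.act (Classical.choose (exists_oct h0 hc)) x₀ else 1, ?_, ?_⟩
  · intro c hc
    have h1 := Classical.choose_spec (exists_oct h0 hc)
    simp only [dif_pos hc]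
    rw [h.π_act, hx₀, h.conj, h1]
  · intro c m hc
    have hc' : wt (wordPerm m c) = 8 := by rw [wt_wordPerm, hc]
    have h1 := Classical.choose_spec (exists_oct h0 hc)
    have h2 := Classical.choose_spec (exists_oct h0 hc')
    simp only [dif_pos hc, dif_pos hc']
    set a := Classical.choose (exists_oct h0 hc)
    set b := Classical.choose (exists_oct h0 hc')
    rw [h.act_act]
    have h3 : wordPerm (b⁻¹ * (m * a)) (w 1) = w 1 := by
      rw [wordPerm_mul, wordPerm_mul, h1, ← h2, wordPerm_inv_wordPerm]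
    have h4 := h.act_fix h0 h3 hx₀
    conv_rhs => rw [← h4]
    rw [h.act_act, mul_inv_cancel_left]

variable {s : golayCode → K} (hs : ∀ c, wt c = 8 → π (s c) = ι c)
  (heq : ∀ c m, wt c = 8 → h.act m (s c) = s (wordPerm m c))

include hs heq

theorem comm_const {c d c' d' : golayCode} (hc : wt c = 8) (hd : wt d = 8) (hc' : wt c' = 8) (hd' : wt d' = 8)
    (hw : wt (c + d) = wt (c' + d')) : ⁅s c, s d⁆ = ⁅s c', s d'⁆ := by
  obtain ⟨m, h1, h2⟩ := exists_pair hc hd hc' hd' hw
  have h3 : π ⁅s c, s d⁆ = 1 := by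
    rw [map_commutatorElement, hs c hc, hs d hd, commutatorElement_eq_one_iff_mul_comm]
    exact h.comm c d
  have h4 := h.act_ker m h3
  rw [← h4]
  simp only [commutatorElement_def, h.act_mul, h.act_inv, heq c m hc, heq d m hd, h1, h2]

theorem comm_mul {c d p : golayCode} (hc : wt c = 8) (hd : wt d = 8) (hcd : wt (c + d) = 8) (hp : wt p = 8) :
    ⁅s (c + d), s p⁆ = ⁅s c, s p⁆ * ⁅s d, s p⁆ := by
  have h1 : π ((s (c + d))⁻¹ * (s c * s d)) = 1 := by
    rw [map_mul, map_inv, map_mul, hs _ hcd, hs _ hc, hs _ hd, h.add, inv_mul_cancel]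
  have h2 : s c * s d = s (c + d) * ((s (c + d))⁻¹ * (s c * s d)) := by rw [mul_inv_cancel_left]
  have h3 : ⁅s c * s d, s p⁆ = ⁅s (c + d), s p⁆ := by
    rw [h2]
    generalize (s (c + d))⁻¹ * (s c * s d) = ζ at h1
    rw [commutatorElement_def, commutatorElement_def, mul_assoc (s (c + d)) ζ, h.cen h1, mul_inv_rev]
    group
  have h4 : π ⁅s d, s p⁆ = 1 := by
    rw [map_commutatorElement, hs d hd, hs p hp, commutatorElement_eq_one_iff_mul_comm]
    exact h.comm d p
  rw [← h3]
  have h5 : ⁅s c * s d, s p⁆ = s c * ⁅s d, s p⁆ * (s c)⁻¹ * ⁅s c, s p⁆ := by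
    simp only [commutatorElement_def]; group
  rw [h5, ← h.cen h4, mul_inv_cancel_right, h.cen h4]

/-- The lifts commute. -/
theorem s_comm {c d : golayCode} (hc : wt c = 8) (hd : wt d = 8) : s c * s d = s d * s c := by
  obtain ⟨p1, p2, p3, ⟨q1, q2, q3, q4⟩, ⟨r1, r2, r3, r4⟩, ⟨t1, t2, t3, t4⟩⟩ := patterns
  have e4 : ⁅s (w 1), s (w 24)⁆ = 1 := by
    have h1 := h.comm_mul hs heq p1 p2 p3 q1
    have h2 := h.comm_const hs heq p3 q1 p2 q1 (by rw [q4, q3])
    rw [h2] at h1
    exact (right_eq_mul.1 h1)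
  have e2 : ⁅s (w 2), s (w 32)⁆ = 1 := by
    have h1 := h.comm_mul hs heq p1 p2 p3 r1
    have h2 := h.comm_const hs heq p3 r1 p1 r1 (by rw [r4, r2])
    rw [h2] at h1
    exact (left_eq_mul.1 h1)
  have e0 : ⁅s (w 2), s (w 376)⁆ = 1 := by
    have h1 := h.comm_mul hs heq p1 p2 p3 t1
    have h2 := h.comm_const hs heq p3 t1 p1 t1 (by rw [t4, t2])
    rw [h2] at h1
    exact (left_eq_mul.1 h1)
  rw [← commutatorElement_eq_one_iff_mul_comm]
  have h3 := wt_add c d
  rcases Cfsg.Agent.CoOneType.SignFacts.wt_cases (c + d) with h1 | h1 | h1 | h1 | h1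
  · have h2 : c = d := by
      have h4 : sup (c + d) = sup 0 := by
        have h5 : sup (c + d) = ∅ := Finset.card_eq_zero.1 h1
        have h6 : sup (0 : golayCode) = ∅ := by
          apply Finset.eq_empty_of_forall_notMem
          intro i hi
          rw [Cfsg.Agent.CoOneType.SignFacts.mem_sup] at hi
          exact zero_ne_one hi
        rw [h5, h6]
      have h7 := sup_inj h4
      have h8 : c + d + d = 0 + d := by rw [h7]
      rwa [add_assoc, Co1Simple.signCo0_add_self, add_zero, zero_add] at h8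
    rw [h2, commutatorElement_self]
  · rw [h.comm_const hs heq hc hd p1 q1 (by rw [h1, q2]), e4]
  · rw [h.comm_const hs heq hc hd p2 r1 (by rw [h1, r3]), e2]
  · rw [h.comm_const hs heq hc hd p2 t1 (by rw [h1, t3]), e0]
  · omega

/-- The third octad operation up to a constant. -/
theorem exists_zeta : ∃ ζ : K, π ζ = 1 ∧ ∀ c d, wt c = 8 → wt d = 8 → wt (c + d) = 8 →
    s c * s d = s (c + d) * ζ := by
  obtain ⟨p1, p2, p3, -⟩ := patterns
  refine ⟨(s (w 1 + w 2))⁻¹ * (s (w 1) * s (w 2)), ?_, ?_⟩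
  · rw [map_mul, map_inv, map_mul, hs _ p1, hs _ p2, hs _ p3, h.add, inv_mul_cancel]
  · intro c d hc hd hcd
    obtain ⟨m, h1, h2⟩ := exists_pair p1 p2 hc hd (by rw [p3, hcd])
    have h3 : π ((s (w 1 + w 2))⁻¹ * (s (w 1) * s (w 2))) = 1 := by
      rw [map_mul, map_inv, map_mul, hs _ p1, hs _ p2, hs _ p3, h.add, inv_mul_cancel]
    have h4 := h.act_ker m h3
    rw [h.act_mul, h.act_mul, h.act_inv, heq _ m p1, heq _ m p2, heq _ m p3, wordPerm_add, h1, h2] at h4
    rw [← h4, mul_inv_cancel_left]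

end Lift

/-- Equivariant lifts of the octads: commuting involutions respecting the third octad operation. -/
theorem Lift.exists_t {K X : Type*} [Group K] [Group X] {π : K →* X} {ι : golayCode → X} {κ : M24 →* X}
    (h : Lift π ι κ) : ∃ t : golayCode → K, (∀ c, wt c = 8 → π (t c) = ι c) ∧
    (∀ c m, wt c = 8 → h.act m (t c) = t (wordPerm m c)) ∧
    (∀ c d, wt c = 8 → wt d = 8 → t c * t d = t d * t c) ∧ (∀ c, wt c = 8 → t c * t c = 1) ∧
    ∀ c d, wt c = 8 → wt d = 8 → wt (c + d) = 8 → t c * t d = t (c + d) := by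
  obtain ⟨s, hs, heq⟩ := h.exists_s
  obtain ⟨ζ, hζ, hz⟩ := h.exists_zeta hs heq
  have hζ' : π ζ⁻¹ = 1 := by rw [map_inv, hζ, inv_one]
  have hcomm : ∀ c d, wt c = 8 → wt d = 8 → s c * ζ⁻¹ * (s d * ζ⁻¹) = s d * ζ⁻¹ * (s c * ζ⁻¹) := by
    intro c d hc hd
    have h1 := h.s_comm hs heq hc hd
    calc s c * ζ⁻¹ * (s d * ζ⁻¹) = s c * (ζ⁻¹ * s d) * ζ⁻¹ := by group
      _ = s c * s d * ζ⁻¹ * ζ⁻¹ := by rw [h.cen hζ']; group
      _ = s d * (s c * ζ⁻¹) * ζ⁻¹ := by rw [h1]; group
      _ = s d * (ζ⁻¹ * s c) * ζ⁻¹ := by rw [h.cen hζ' (s c)]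
      _ = _ := by group
  have hadd : ∀ c d, wt c = 8 → wt d = 8 → wt (c + d) = 8 → s c * ζ⁻¹ * (s d * ζ⁻¹) = s (c + d) * ζ⁻¹ := by
    intro c d hc hd hcd
    have h1 := hz c d hc hd hcd
    calc s c * ζ⁻¹ * (s d * ζ⁻¹) = s c * (ζ⁻¹ * s d) * ζ⁻¹ := by group
      _ = s c * s d * ζ⁻¹ * ζ⁻¹ := by rw [h.cen hζ']; group
      _ = _ := by rw [h1]; group
  have heq' : ∀ c m, wt c = 8 → h.act m (s c * ζ⁻¹) = s (wordPerm m c) * ζ⁻¹ := by
    intro c m hc
    rw [h.act_mul, h.act_ker m hζ', heq c m hc]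
  have hπ : ∀ c, wt c = 8 → π (s c * ζ⁻¹) = ι c := by
    intro c hc
    rw [map_mul, hζ', mul_one, hs c hc]
  refine ⟨fun c => s c * ζ⁻¹, hπ, heq', hcomm, ?_, hadd⟩
  -- the squares
  obtain ⟨p1, p2, p3, -⟩ := patterns
  have hW : π ((s (w 1) * ζ⁻¹) * (s (w 1) * ζ⁻¹)) = 1 := by
    rw [map_mul, hπ _ p1, h.self]
  have hconst : ∀ c, wt c = 8 → s c * ζ⁻¹ * (s c * ζ⁻¹) = (s (w 1) * ζ⁻¹) * (s (w 1) * ζ⁻¹) := by
    intro c hc
    obtain ⟨m, hm⟩ := exists_oct p1 hc
    have h1 := h.act_ker m hW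
    rw [h.act_mul, heq' _ m p1, hm] at h1
    exact h1
  intro c hc
  have h1 := hconst c hc
  show s c * ζ⁻¹ * (s c * ζ⁻¹) = 1
  rw [h1]
  have h2 := hconst _ p3
  have h3 := hadd _ _ p1 p2 p3
  have h4 := hconst _ p2
  rw [← h3] at h2
  have h5 := hcomm _ _ p1 p2
  set a := s (w 1) * ζ⁻¹
  set b := s (w 2) * ζ⁻¹
  have h6 : a * b * (a * b) = (a * a) * (b * b) := by
    calc a * b * (a * b) = a * (b * a) * b := by group
      _ = a * (a * b) * b := by rw [← h5]
      _ = _ := by group
  rw [h6, h4] at h2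
  exact (left_eq_mul.1 h2.symm)

/-- **The lift of the Golay code.** -/
theorem Lift.exists_section {K X : Type*} [Group K] [Group X] {π : K →* X} {ι : golayCode → X} {κ : M24 →* X}
    (h : Lift π ι κ) : ∃ S : golayCode → K, (∀ c d, S (c + d) = S c * S d) ∧ (∀ c, π (S c) = ι c) ∧
    ∀ (k : K) (m : M24), π k = κ m → ∀ c, k * S c * k⁻¹ = S (wordPerm m c) := by
  obtain ⟨t, hπ, heq, hcomm, hsq, hadd⟩ := h.exists_t
  obtain ⟨b, hb⟩ := exists_basis
  obtain ⟨S, hS, hSb⟩ := exists_hom b (fun j => t (bas j)) (fun i j => hcomm _ _ (wt_bas i) (wt_bas j))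
    (fun i => hsq _ (wt_bas i))
  have hSt : ∀ c, wt c = 8 → S c = t c := by
    apply oct_induction
    · intro j
      rw [← hb j, hSb, hb]
    · intro c d hc hd hcd h1 h2
      rw [hS, h1, h2, hadd c d hc hd hcd]
  refine ⟨S, hS, ?_, ?_⟩
  · refine hom_ext (S := fun c => π (S c)) (fun c d => ?_) h.add (fun c hc => ?_)
    · rw [hS, map_mul]
    · rw [hSt c hc, hπ c hc]
  · intro k m hk
    refine hom_ext (S := fun c => k * S c * k⁻¹) (S' := fun c => S (wordPerm m c)) (fun c d => ?_)
      (fun c d => ?_) (fun c hc => ?_)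
    · rw [hS]; group
    · rw [wordPerm_add, hS]
    · have hc' : wt (wordPerm m c) = 8 := by rw [wt_wordPerm, hc]
      show k * S c * k⁻¹ = S (wordPerm m c)
      rw [hSt c hc, hSt _ hc', ← heq c m hc, h.act_eq hk]

end Cfsg.Agent.KFacts.MulCo.OctLift
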