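import Cfsg.Agent.KFacts.MulCo.Quot
import Cfsg.Agent.KFacts.MulCo.OctLift
import Cfsg.Agent.S0364
import Cfsg.Agent.S0365

/-!
# Groups with a subgroup `C : M₂₄` of odd index, `C` the Golay code or the Golay code modulo the all-one word (helper927)

`Gol ι κ P`: `P = ι(C) κ(M₂₄)` is a subgroup of odd index of `X`, the kernel of `ι` is `0` or `⟨allOne⟩`.

* `Gol.card_ker_le`: if `M₂₄` has no perfect double cover, then the kernel of a central extension `K → X`, `K` finite
  perfect, has 2-part at most 2; precisely `|ker|` is odd or the kernel is of index odd over `⟨S(allOne)⟩`.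
-/

set_option autoImplicit false
open Cfsg

namespace Cfsg.Agent.KFacts.MulCo.Core

open Subgroup Cfsg.Agent.KFacts.MulTwo Cfsg.Agent.KFacts.MulDef
open Cfsg.Agent.SporadicA Cfsg.Agent.SporadicA.Co0Mono
open Cfsg.Agent.SporadicA.Co1Simple (allOne wordPerm_mul wordPerm_one signCo0_add_self)
open Cfsg.Agent.KFacts.MulCo.OctLift
open scoped commutatorElement

theorem commutator_M24 : commutator M24 = ⊤ := by
  rcases Cfsg.Agent.S0365.result.eq_bot_or_eq_top_of_normal (commutator M24) inferInstance with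
    h | h
  · exfalso
    have hcomm : ∀ a b : M24, a * b = b * a := by
      intro a b
      have h1 : ⁅a, b⁆ ∈ commutator M24 :=
        Subgroup.commutator_mem_commutator (Subgroup.mem_top a) (Subgroup.mem_top b)
      rw [h, Subgroup.mem_bot, commutatorElement_eq_one_iff_mul_comm] at h1
      exact h1
    let _ : CommGroup M24 := { (inferInstance : Group M24) with mul_comm := hcomm }
    have : IsSimpleGroup M24 := Cfsg.Agent.S0365.result
    have h2 : (Nat.card M24).Prime := IsSimpleGroup.prime_card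
    rw [Cfsg.Agent.S0364.result] at h2
    exact absurd h2 (by norm_num)
  · exact h

/-- `P = ι(C) κ(M₂₄)`, of odd index. -/
structure Gol {X : Type*} [Group X] (ι : golayCode → X) (κ : M24 →* X) (P : Subgroup X) : Prop where
  add : ∀ c d, ι (c + d) = ι c * ι d
  conj : ∀ m c, κ m * ι c * (κ m)⁻¹ = ι (wordPerm m c)
  inj : ∀ w σ, ι w * κ σ = 1 → σ = 1 ∧ (w = 0 ∨ w = allOne)
  mem : ∀ x, x ∈ P ↔ ∃ w σ, x = ι w * κ σ
  odd : ¬ 2 ∣ P.index

namespace Gol

variable {X : Type*} [Group X] {ι : golayCode → X} {κ : M24 →* X} {P : Subgroup X} (h : Gol ι κ P)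

include h

theorem ι_zero : ι 0 = 1 := by
  have := h.add 0 0
  rw [add_zero] at this
  exact (left_eq_mul.1 this)

theorem κ_inj : Function.Injective κ := by
  rw [injective_iff_map_eq_one]
  intro σ hσ
  exact (h.inj 0 σ (by rw [h.ι_zero, hσ, one_mul])).1

theorem lift {K : Type*} [Group K] {π : K →* X} (hs : Function.Surjective π) (hk : π.ker ≤ center K) :
    Lift π ι κ := ⟨hs, hk, h.add, h.conj⟩

/-- No double cover of `X` in which the all-one word lifts trivially. -/
theorem false_of_dbl (hM : NoDouble M24) {L : Type*} [Group L] [Finite L] {π : L →* X} {c : L} (hd : Dbl π c)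
    {S : golayCode → L} (hS : ∀ a b, S (a + b) = S a * S b) (hπ : ∀ a, π (S a) = ι a)
    (heq : ∀ (k : L) (m : M24), π k = κ m → ∀ a, k * S a * k⁻¹ = S (wordPerm m a)) (h1 : S allOne = 1) : False := by
  have hS0 : S 0 = 1 := by
    have := hS 0 0
    rw [add_zero] at this
    exact (left_eq_mul.1 this)
  have hSS : ∀ a, S a * S a = 1 := fun a => by rw [← hS, signCo0_add_self, hS0]
  -- the double cover of `M₂₄`
  let M : Subgroup L := κ.range.comap π
  have hcM : c ∈ M := by
    rw [mem_comap, (hd.ker c).2 (Or.inr rfl)]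
    exact one_mem _
  let e := (MonoidHom.ofInjective h.κ_inj).symm
  let ρ : M →* M24 := e.toMonoidHom.comp (π.subgroupComap κ.range)
  have hρ : ∀ x : M, κ (ρ x) = π x := by
    intro x
    have h2 : MonoidHom.ofInjective h.κ_inj (ρ x) = π.subgroupComap κ.range x :=
      (MonoidHom.ofInjective h.κ_inj).apply_symm_apply _
    exact congrArg Subtype.val h2
  have hρs : Function.Surjective ρ := by
    intro σ
    obtain ⟨x, hx⟩ := hd.surj (κ σ)
    have hxM : x ∈ M := by rw [mem_comap, hx]; exact ⟨σ, rfl⟩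
    refine ⟨⟨x, hxM⟩, h.κ_inj ?_⟩
    rw [hρ]; exact hx
  have hρk : ∀ x : M, ρ x = 1 ↔ x = 1 ∨ x = ⟨c, hcM⟩ := by
    intro x
    rw [← map_eq_one_iff κ h.κ_inj, hρ, hd.ker, Subtype.ext_iff, Subtype.ext_iff]
    rfl
  obtain ⟨k1, k2⟩ := Quot.compl_of_noDouble commutator_M24 hM hρs (c := (⟨c, hcM⟩ : M))
    (fun h2 => hd.ne (congrArg Subtype.val h2)) (Subtype.ext hd.sq)
    (fun x => Subtype.ext (hd.cen x)) hρk
  -- the complement in the preimage of `P`
  let P₁ : Subgroup L :=
    { carrier := {x | ∃ a, ∃ m : M, m ∈ commutator M ∧ x = S a * m}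
      one_mem' := ⟨0, 1, one_mem _, by rw [hS0, one_mul]; rfl⟩
      mul_mem' := by
        rintro _ _ ⟨a, m, hm, rfl⟩ ⟨b, n, hn, rfl⟩
        refine ⟨a + wordPerm (ρ m) b, m * n, mul_mem hm hn, ?_⟩
        rw [hS, ← heq m (ρ m) (hρ m).symm b, coe_mul]
        group
      inv_mem' := by
        rintro _ ⟨a, m, hm, rfl⟩
        refine ⟨wordPerm (ρ m)⁻¹ a, m⁻¹, inv_mem hm, ?_⟩
        have h2 : (S a)⁻¹ = S a := inv_eq_of_mul_eq_one_left (hSS a)
        have h3 := heq (m : L) (ρ m) (hρ m).symm (wordPerm (ρ m)⁻¹ a)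
        have h4 : wordPerm (ρ m) (wordPerm (ρ m)⁻¹ a) = a := by
          rw [← wordPerm_mul, mul_inv_cancel, wordPerm_one]
        rw [h4] at h3
        rw [mul_inv_rev, h2, ← h3, coe_inv]
        group }
  have hc1 : c ∉ P₁ := by
    rintro ⟨a, m, hm, h2⟩
    have h3 : ι a * κ (ρ m) = 1 := by
      rw [← hπ, hρ, ← map_mul, ← h2, (hd.ker c).2 (Or.inr rfl)]
    obtain ⟨-, h4⟩ := h.inj _ _ h3
    have h5 : S a = 1 := by
      rcases h4 with h4 | h4
      · rw [h4, hS0]
      · rw [h4, h1]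
    rw [h5, one_mul] at h2
    apply k1
    have h6 : (⟨c, hcM⟩ : M) = m := Subtype.ext h2
    rw [h6]; exact hm
  have hcP : c ∈ P.comap π := by
    rw [mem_comap, (hd.ker c).2 (Or.inr rfl)]
    exact one_mem _
  refine hd.toCtr.false_of_compl (P := P.comap π) (P₁ := P₁) hcP ?_ hc1 ?_
  · rw [index_comap_of_surjective P hd.surj]
    exact h.odd
  · intro x hx
    obtain ⟨a, σ, h2⟩ := (h.mem _).1 (mem_comap.1 hx)
    obtain ⟨m, hm⟩ := hρs σ
    have h3 : π ((S a * (m : L))⁻¹ * x) = 1 := by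
      rw [map_mul, map_inv, map_mul, hπ, ← hρ, hm, h2, inv_mul_cancel]
    have hcc := hd.sq
    have h5 : c * x = S a * ((⟨c, hcM⟩ * m : M) : L) * ((S a * (m : L))⁻¹ * x) := by
      rw [coe_mul]
      have h6 := hd.cen (S a)
      calc c * x = (c * S a) * ((m : L) * ((S a * (m : L))⁻¹ * x)) := by group
        _ = (S a * c) * ((m : L) * ((S a * (m : L))⁻¹ * x)) := by rw [h6]
        _ = _ := by group
    have h4 : x = S a * (m : L) * ((S a * (m : L))⁻¹ * x) := by group
    rcases (hd.ker _).1 h3 with h7 | h7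
    · rw [h7, mul_one] at h4 h5
      rcases k2 m with h8 | h8
      · left; exact ⟨a, m, h8, h4⟩
      · right; exact ⟨a, _, h8, h5⟩
    · rw [h7] at h4 h5
      have h9 : x = S a * ((⟨c, hcM⟩ * m : M) : L) := by
        rw [h4, coe_mul]
        show S a * (m : L) * c = S a * (c * m)
        rw [mul_assoc, hd.cen]
      have h10 : c * x = S a * (m : L) := by
        rw [h4]
        calc c * (S a * (m : L) * c) = (S a * (m : L) * c) * c := by rw [hd.cen]
          _ = S a * (m : L) * (c * c) := by group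
          _ = _ := by rw [hcc, mul_one]
      rcases k2 m with h8 | h8
      · right; exact ⟨a, m, h8, h10⟩
      · left; exact ⟨a, _, h8, h9⟩

/-- The kernel of a perfect central extension is `⟨S(allOne)⟩` up to odd index. -/
theorem odd_relIndex (hM : NoDouble M24) {K : Type*} [Group K] [Finite K] (hK : commutator K = ⊤) {π : K →* X}
    (hs : Function.Surjective π) (hk : π.ker ≤ center K) (h1 : ι allOne = 1) :
    ∃ e : K, e ∈ π.ker ∧ e * e = 1 ∧ ¬ 2 ∣ (zpowers e).relIndex π.ker := by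
  obtain ⟨S, hS, hπ, heq⟩ := (h.lift hs hk).exists_section
  have hS0 : S 0 = 1 := by
    have := hS 0 0
    rw [add_zero] at this
    exact (left_eq_mul.1 this)
  have hek : S allOne ∈ π.ker := by rw [MonoidHom.mem_ker, hπ, h1]
  refine ⟨S allOne, hek, by rw [← hS, signCo0_add_self, hS0], fun h2 => ?_⟩
  obtain ⟨Z₀, hn, hle, c, hY, hd⟩ := Quot.exists_dbl hK hs hk (Y := zpowers (S allOne))
    (by rw [zpowers_le]; exact hek) h2
  refine h.false_of_dbl hM hd (S := fun a => QuotientGroup.mk' Z₀ (S a)) (fun a b => ?_) (fun a => ?_) ?_ ?_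
  · rw [hS, map_mul]
  · exact hπ a
  · intro k m hkm a
    obtain ⟨k, rfl⟩ := QuotientGroup.mk'_surjective Z₀ k
    rw [← map_inv, ← map_mul, ← map_mul, heq k m hkm a]
  · exact (QuotientGroup.eq_one_iff _).2 (hY (mem_zpowers _))

/-- The kernel of a perfect central extension by a 2-group has order at most 2. -/
theorem card_ker_le (hM : NoDouble M24) {K : Type*} [Group K] [Finite K] (hK : commutator K = ⊤) {π : K →* X}
    (hs : Function.Surjective π) (hk : π.ker ≤ center K) (h1 : ι allOne = 1) (h2 : IsPGroup 2 π.ker) :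
    Nat.card π.ker ≤ 2 := by
  obtain ⟨e, he, hee, hidx⟩ := h.odd_relIndex hM hK hs hk h1
  have h3 : (zpowers e).relIndex π.ker = 1 := by
    obtain ⟨n, hn⟩ := IsPGroup.iff_card.1 h2
    have h4 : (zpowers e).relIndex π.ker ∣ 2 ^ n := by rw [← hn]; exact (zpowers e).relIndex_dvd_card π.ker
    obtain ⟨j, -, hj⟩ := (Nat.dvd_prime_pow Nat.prime_two).1 h4
    rcases Nat.eq_zero_or_pos j with rfl | hj'
    · rw [hj, pow_zero]
    · exact absurd (hj ▸ dvd_pow_self 2 hj'.ne') hidx
  have h4 : π.ker ≤ zpowers e := relIndex_eq_one.1 h3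
  have h5 : Nat.card (zpowers e) ≤ 2 := by
    rw [Nat.card_zpowers]
    exact Nat.le_of_dvd (by norm_num) (orderOf_dvd_of_pow_eq_one (by rw [pow_two, hee]))
  exact (Nat.card_mono (Set.toFinite _) h4).trans h5

end Gol

end Cfsg.Agent.KFacts.MulCo.Core
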