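import Cfsg.Agent.KFacts.MulDef

/-!
# Double covers as quotients of central extensions (helper927)

* `exists_index_two`: between central subgroups `Y ≤ Z` with `|Z : Y|` even there is `Z₀` of index 2 in `Z` containing `Y`.
* `dbl_of_relIndex`: dividing out a subgroup `Z₀` of index 2 of the central kernel gives a perfect double cover.
* `exists_dbl`: if `|f.ker : Y|` is even for the central extension `f : K → X`, `K` finite perfect, then some quotient
  `K / Z₀`, `Y ≤ Z₀ ≤ f.ker`, is a perfect double cover of `X`.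
-/

set_option autoImplicit false

namespace Cfsg.Agent.KFacts.MulCo.Quot

open Subgroup Cfsg.Agent.KFacts.MulTwo Cfsg.Agent.KFacts.MulDef

theorem normal_of_le_center {K : Type*} [Group K] {Y : Subgroup K} (hY : Y ≤ center K) : Y.Normal :=
  ⟨fun n hn g => by
    have : g * n = n * g := mem_center_iff.1 (hY hn) g
    rw [this, mul_inv_cancel_right]; exact hn⟩

theorem exists_index_two {K : Type*} [Group K] [Finite K] {Y Z : Subgroup K} (hZ : Z ≤ center K) (hYZ : Y ≤ Z)
    (h2 : 2 ∣ Y.relIndex Z) : ∃ Z₀ : Subgroup K, Y ≤ Z₀ ∧ Z₀ ≤ Z ∧ Z₀.relIndex Z = 2 := by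
  have hn : Y.Normal := normal_of_le_center (hYZ.trans hZ)
  let q := QuotientGroup.mk' Y
  have hq : Function.Surjective q := QuotientGroup.mk'_surjective _
  have hcen : Z.map q ≤ center (K ⧸ Y) := by
    rintro _ ⟨z, hz, rfl⟩
    rw [mem_center_iff]
    intro x
    obtain ⟨x, rfl⟩ := hq x
    rw [← map_mul, ← map_mul, mem_center_iff.1 (hZ hz) x]
  have hker : q.ker = Y := QuotientGroup.ker_mk' Y
  have hcard : Nat.card (Z.map q) = Y.relIndex Z := by
    rw [← relIndex_ker, hker]
  obtain ⟨Z₁, hle, hc⟩ := MulDef.exists_index_two hcen (by rw [hcard]; exact h2)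
  refine ⟨Z₁.comap q, ?_, ?_, ?_⟩
  · intro y hy
    rw [mem_comap]
    have : q y = 1 := by rw [← MonoidHom.mem_ker, hker]; exact hy
    rw [this]; exact one_mem _
  · intro x hx
    obtain ⟨z, hz, h3⟩ := hle (mem_comap.1 hx)
    have h4 : z⁻¹ * x ∈ Y := by
      rw [← hker, MonoidHom.mem_ker, map_mul, map_inv, h3, inv_mul_cancel]
    have := mul_mem hz (hYZ h4)
    rwa [mul_inv_cancel_left] at this
  · rw [relIndex_comap]
    have h1 := (Z₁.subgroupOf (Z.map q)).card_mul_index
    rw [Nat.card_congr (subgroupOfEquivOfLe hle).toEquiv, hc, mul_comm 2] at h1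
    exact Nat.eq_of_mul_eq_mul_left Nat.card_pos h1

theorem dbl_of_relIndex {K : Type*} [Group K] {X : Type*} [Group X] (hK : commutator K = ⊤)
    {f : K →* X} (hf : Function.Surjective f) (hZ : f.ker ≤ center K) {Z₀ : Subgroup K} [Z₀.Normal]
    (hle : Z₀ ≤ f.ker) (hidx : Z₀.relIndex f.ker = 2) :
    ∃ c : K ⧸ Z₀, Dbl (QuotientGroup.lift Z₀ f hle) c := by
  have hcomm : ∀ a ∈ f.ker, ∀ b : K, b * a = a * b := fun a ha b => mem_center_iff.1 (hZ ha) b
  let q := QuotientGroup.mk' Z₀
  have hq : Function.Surjective q := QuotientGroup.mk'_surjective _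
  have hlt : ∃ c ∈ f.ker, c ∉ Z₀ := by
    by_contra hcon
    push Not at hcon
    have h1 : f.ker ≤ Z₀ := hcon
    rw [relIndex_eq_one.2 h1] at hidx
    omega
  obtain ⟨c, hc, hc0⟩ := hlt
  have hq1 : ∀ x, q x = 1 ↔ x ∈ Z₀ := fun x => QuotientGroup.eq_one_iff x
  have htwo : ∀ x ∈ f.ker, x ∈ Z₀ ∨ c⁻¹ * x ∈ Z₀ := by
    intro x hx
    by_contra hcon
    push Not at hcon
    have h1 := (Subgroup.mul_mem_iff_of_index_two hidx (a := (⟨c, hc⟩ : f.ker)⁻¹) (b := ⟨x, hx⟩))
    simp only [mem_subgroupOf, coe_mul, coe_inv, inv_mem_iff] at h1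
    exact hcon.2 (h1.2 ⟨fun h => absurd h hc0, fun h => absurd h hcon.1⟩)
  refine ⟨q c, ⟨⟨?_, ?_, ?_, ?_⟩, ?_, ?_⟩⟩
  · exact fun h1 => hc0 ((hq1 c).1 h1)
  · rw [← map_mul, hq1]
    rcases htwo (c * c) (mul_mem hc hc) with h1 | h1
    · exact h1
    · rw [inv_mul_cancel_left] at h1
      exact absurd h1 hc0
  · intro x
    obtain ⟨x, rfl⟩ := hq x
    rw [← map_mul, ← map_mul, hcomm c hc x]
  · exact commutator_top_of_surj q hq hK
  · exact fun y => (hf y).imp' q fun x hx => hx
  · intro x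
    obtain ⟨x, rfl⟩ := hq x
    show f x = 1 ↔ _
    constructor
    · intro hx
      rcases htwo x hx with h1 | h1
      · left; exact (hq1 x).2 h1
      · right
        have := (hq1 _).2 h1
        rw [map_mul, map_inv] at this
        exact (inv_mul_eq_one.1 this).symm
    · rintro (h1 | h1)
      · exact hle ((hq1 x).1 h1)
      · have h2 : q (c⁻¹ * x) = 1 := by rw [map_mul, map_inv, h1, inv_mul_cancel]
        have h3 := hle ((hq1 _).1 h2)
        have := mul_mem hc h3
        rwa [mul_inv_cancel_left] at this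

/-- A double cover of `X` below a central extension with kernel larger than `Y`. -/
theorem exists_dbl {K : Type*} [Group K] [Finite K] {X : Type*} [Group X] (hK : commutator K = ⊤)
    {f : K →* X} (hf : Function.Surjective f) (hZ : f.ker ≤ center K) {Y : Subgroup K} (hY : Y ≤ f.ker)
    (h2 : 2 ∣ Y.relIndex f.ker) :
    ∃ (Z₀ : Subgroup K) (_ : Z₀.Normal) (hle : Z₀ ≤ f.ker) (c : K ⧸ Z₀), Y ≤ Z₀ ∧
      Dbl (QuotientGroup.lift Z₀ f hle) c := by
  obtain ⟨Z₀, h1, h3, h4⟩ := exists_index_two hZ hY h2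
  have hn : Z₀.Normal := normal_of_le_center (h3.trans hZ)
  obtain ⟨c, hc⟩ := dbl_of_relIndex hK hf hZ h3 h4
  exact ⟨Z₀, hn, h3, c, h1, hc⟩

/-- If `π : M → X` is surjective with kernel `{1, c}`, `c` central, and `X` is perfect without perfect double cover, then
`⟨c⟩` is a direct factor: the commutator subgroup is a complement. -/
theorem compl_of_noDouble {M X : Type*} [Group M] [Finite M] [Group X] (hX : commutator X = ⊤) (h : NoDouble X)
    {π : M →* X} (hs : Function.Surjective π) {c : M} (hc1 : c ≠ 1) (hcc : c * c = 1)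
    (hcen : ∀ x, c * x = x * c) (hker : ∀ x, π x = 1 ↔ x = 1 ∨ x = c) :
    c ∉ commutator M ∧ ∀ x : M, x ∈ commutator M ∨ c * x ∈ commutator M := by
  have hmap : (commutator M).map π = ⊤ := by
    rw [commutator_def, map_commutator, ← MonoidHom.range_eq_map, MonoidHom.range_eq_top.2 hs, ← commutator_def, hX]
  have key : ∀ x : M, x ∈ commutator M ∨ c * x ∈ commutator M := by
    intro x
    have h1 : π x ∈ (commutator M).map π := by rw [hmap]; trivial
    obtain ⟨d, hd, h2⟩ := h1
    have h3 : π (d * x⁻¹) = 1 := by rw [map_mul, map_inv, h2, mul_inv_cancel]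
    rcases (hker _).1 h3 with h4 | h4
    · left
      rw [mul_inv_eq_one] at h4
      rw [← h4]; exact hd
    · right
      rw [mul_inv_eq_iff_eq_mul] at h4
      rw [← h4]; exact hd
  refine ⟨fun hc => ?_, key⟩
  have htop : commutator M = ⊤ := by
    rw [eq_top_iff]
    intro x _
    rcases key x with h1 | h1
    · exact h1
    · have := mul_mem (inv_mem hc) h1
      rwa [inv_mul_cancel_left] at this
  exact h.false (π := π) (c := c) ⟨⟨hc1, hcc, hcen, htop⟩, hs, hker⟩

end Cfsg.Agent.KFacts.MulCo.Quot
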